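import Mathlib.RingTheory.Etale.Kaehler
import Mathlib.RingTheory.Extension.Cotangent.BaseChange
import Mathlib.Algebra.Algebra.Epi
import Mathlib.RingTheory.Flat.Basic
import Mathlib.RingTheory.Localization.Away.Basic
import Mathlib.LinearAlgebra.Span.TensorProduct

/-!
# First cotangent homology: composition, flat epimorphic change of base, gluing
-/

set_option autoImplicit false
universe u

open TensorProduct Algebra

namespace Groth.Agent.FlatMor12.NLSheaf

theorem map_map {R₁ R₂ R₃ S₁ S₂ S₃ : Type u} [CommRing R₁] [CommRing R₂] [CommRing R₃] [CommRing S₁]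
    [CommRing S₂] [CommRing S₃] [Algebra R₁ S₁] [Algebra R₂ S₂] [Algebra R₃ S₃] [Algebra R₁ R₂] [Algebra R₂ R₃]
    [Algebra R₁ R₃] [Algebra S₁ S₂] [Algebra S₂ S₃] [Algebra S₁ S₃] [Algebra R₁ S₂] [Algebra R₁ S₃] [Algebra R₂ S₃]
    [IsScalarTower R₁ R₂ R₃] [IsScalarTower S₁ S₂ S₃] [IsScalarTower R₁ R₂ S₂] [IsScalarTower R₁ S₁ S₂]
    [IsScalarTower R₂ R₃ S₃] [IsScalarTower R₂ S₂ S₃] [IsScalarTower R₁ R₃ S₃] [IsScalarTower R₁ S₁ S₃]
    (x : H1Cotangent R₁ S₁) :
    H1Cotangent.map R₂ R₃ S₂ S₃ (H1Cotangent.map R₁ R₂ S₁ S₂ x) = H1Cotangent.map R₁ R₃ S₁ S₃ x := by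
  haveI : IsScalarTower R₁ R₂ S₃ := IsScalarTower.of_algebraMap_eq fun r => by
    rw [IsScalarTower.algebraMap_apply R₁ R₃ S₃, IsScalarTower.algebraMap_apply R₁ R₂ R₃,
      ← IsScalarTower.algebraMap_apply R₂ R₃ S₃]
  simp only [H1Cotangent.map]
  rw [← Extension.H1Cotangent.map_comp_apply]
  exact LinearMap.congr_fun (Extension.H1Cotangent.map_eq _ _) x

theorem map_self (R S : Type u) [CommRing R] [CommRing S] [Algebra R S] (x : H1Cotangent R S) :
    H1Cotangent.map R R S S x = x := by
  rw [H1Cotangent.map, Extension.H1Cotangent.map_eq _ (.id _), Extension.H1Cotangent.map_id]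
  rfl

section Epi

variable (R R' S : Type u) [CommRing R] [CommRing R'] [CommRing S] [Algebra R R'] [Algebra R S] [Algebra R' S]
  [IsScalarTower R R' S] [Module.Flat R R'] [Algebra.IsEpi R R']

/-- Changing the base along a flat epimorphism does not change the first cotangent homology. -/
theorem bijective_map_of_epi : Function.Bijective (H1Cotangent.map R R' S S) := by
  let T := R' ⊗[R] S
  letI : Algebra S T := Algebra.TensorProduct.rightAlgebra
  haveI : IsScalarTower R S T := IsScalarTower.of_algebraMap_eq fun r => by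
    show algebraMap R (R' ⊗[R] S) r = (1 : R') ⊗ₜ[R] algebraMap R S r
    rw [Algebra.TensorProduct.algebraMap_apply, ← Algebra.TensorProduct.tmul_one_eq_one_tmul]
  let μ : T →ₐ[R'] S := Algebra.TensorProduct.lift (Algebra.ofId R' S) (AlgHom.id R S) fun _ _ => Commute.all _ _
  have hμ : ∀ z, μ z = TensorProduct.lid' R R' S z := by
    intro z
    induction z using TensorProduct.induction_on with
    | zero => simp
    | tmul a b =>
      rw [TensorProduct.lid'_apply_tmul, Algebra.smul_def]
      exact Algebra.TensorProduct.lift_tmul _ _ _ a b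
    | add a b ha hb => simp [map_add, ha, hb]
  have hb : Function.Bijective μ := by
    have : (μ : T → S) = TensorProduct.lid' R R' S := funext hμ
    rw [this]
    exact (TensorProduct.lid' R R' S).bijective
  let e : T ≃ₐ[R'] S := AlgEquiv.ofBijective μ hb
  letI : Algebra T S := μ.toRingHom.toAlgebra
  haveI : IsScalarTower R' T S := IsScalarTower.of_algebraMap_eq fun r => (μ.commutes r).symm
  haveI : IsScalarTower S T S := IsScalarTower.of_algebraMap_eq fun s => by
    show s = μ ((1 : R') ⊗ₜ s)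
    rw [show μ ((1 : R') ⊗ₜ[R] s) = _ from Algebra.TensorProduct.lift_tmul _ _ _ _ _, map_one, one_mul]
    rfl
  haveI : IsScalarTower R T S := IsScalarTower.of_algebraMap_eq fun r => by
    rw [IsScalarTower.algebraMap_apply R R' T, ← IsScalarTower.algebraMap_apply R' T S,
      ← IsScalarTower.algebraMap_apply R R' S]
  have h1 : Function.Bijective (fun x : H1Cotangent R S => (1 : R') ⊗ₜ[R] x) := by
    convert! (TensorProduct.lid' R R' (H1Cotangent R S)).symm.bijective using 1
    funext x
    exact (TensorProduct.lid'_symm_apply R R' _ x).symm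
  have h2 : Function.Bijective (H1Cotangent.map R' R' T S) := (H1Cotangent.mapEquiv R' T S e).bijective
  convert! h2.comp ((Algebra.tensorH1CotangentOfFlat R S R').bijective.comp h1) using 1
  funext x
  simp only [Function.comp_apply]
  rw [Algebra.tensorH1CotangentOfFlat_tmul, one_smul, map_map]

/-- With a change of base along a flat epimorphism, localization of the top ring localizes `H¹`. -/
theorem isLocalizedModule_map {S₀ : Type u} [CommRing S₀] [Algebra R S₀] [Algebra S₀ S] [IsScalarTower R S₀ S]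
    (M : Submonoid S₀) [IsLocalization M S] :
    IsLocalizedModule M (H1Cotangent.map R R' S₀ S) := by
  let φ : H1Cotangent R S →ₗ[S₀] H1Cotangent R' S := (H1Cotangent.map R R' S S).restrictScalars S₀
  let e : H1Cotangent R S ≃ₗ[S₀] H1Cotangent R' S := LinearEquiv.ofBijective φ (bijective_map_of_epi R R' S)
  have : H1Cotangent.map R R' S₀ S = e.toLinearMap ∘ₗ H1Cotangent.map R R S₀ S := by
    ext x : 1
    exact (map_map x).symm
  rw [this]
  exact IsLocalizedModule.of_linearEquiv M _ e

end Epi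

section Glue

variable {S : Type u} [CommRing S] {N : Type u} [AddCommGroup N] [Module S N]
variable {ι : Type*} [Fintype ι] (g : ι → S) (hg : Ideal.span (Set.range g) = ⊤)
variable {Nk : ι → Type u} [∀ k, AddCommGroup (Nk k)] [∀ k, Module S (Nk k)] (f : ∀ k, N →ₗ[S] Nk k)
  [∀ k, IsLocalizedModule (Submonoid.powers (g k)) (f k)]

include hg in
theorem eq_zero_of_forall_map_eq_zero {x : N} (h : ∀ k, f k x = 0) : x = 0 := by
  have : ∀ k, ∃ n : ℕ, g k ^ n • x = 0 := fun k => by
    obtain ⟨⟨_, n, rfl⟩, hn⟩ := (IsLocalizedModule.eq_zero_iff (Submonoid.powers (g k)) (f k)).1 (h k)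
    exact ⟨n, hn⟩
  choose n hn using this
  have htop := Ideal.span_pow_eq_top (Set.range g) hg (Finset.univ.sup n)
  rw [← Set.range_comp] at htop
  obtain ⟨c, hc⟩ := Ideal.mem_span_range_iff_exists_fun.1 ((Ideal.eq_top_iff_one _).1 htop)
  rw [← one_smul S x, ← hc, Finset.sum_smul]
  refine Finset.sum_eq_zero fun k _ => ?_
  obtain ⟨j, hj⟩ := Nat.exists_eq_add_of_le (Finset.le_sup (f := n) (Finset.mem_univ k))
  simp only [Function.comp_apply]
  rw [hj, mul_smul, pow_add, mul_comm, mul_smul, hn, smul_zero, smul_zero]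

include hg in
theorem exists_glue {Nkl : ι → ι → Type u} [∀ k l, AddCommGroup (Nkl k l)] [∀ k l, Module S (Nkl k l)]
    (p : ∀ k l, Nk k →ₗ[S] Nkl k l) (q : ∀ k l, Nk l →ₗ[S] Nkl k l)
    (hpq : ∀ k l x, p k l (f k x) = q k l (f l x))
    (hker : ∀ k l x, p k l (f k x) = 0 → ∃ n : ℕ, (g k * g l) ^ n • x = 0)
    (y : ∀ k, Nk k) (hy : ∀ k l, p k l (y k) = q k l (y l)) : ∃ x, ∀ k, f k x = y k := by
  classical
  have hsurj : ∀ k, ∃ (a : ℕ) (m : N), g k ^ a • y k = f k m := fun k => by
    obtain ⟨⟨m, ⟨_, a, rfl⟩⟩, hm⟩ := IsLocalizedModule.surj (Submonoid.powers (g k)) (f k) (y k)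
    exact ⟨a, m, hm⟩
  choose a m hm using hsurj
  let A := Finset.univ.sup a
  obtain ⟨m', hm'⟩ : ∃ m' : ι → N, ∀ k, g k ^ A • y k = f k (m' k) :=
    ⟨fun k => g k ^ (A - a k) • m k, fun k => by
      simp only [map_smul, ← hm, smul_smul, ← pow_add]
      rw [Nat.sub_add_cancel (Finset.le_sup (f := a) (Finset.mem_univ k))]⟩
  have hov : ∀ k l, ∃ n : ℕ, (g k * g l) ^ n • (g l ^ A • m' k - g k ^ A • m' l) = 0 := fun k l => by
    refine hker k l _ ?_
    rw [map_sub, map_sub, hpq k l (g k ^ A • m' l), map_smul (f k), map_smul (f l), map_smul (p k l),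
      map_smul (q k l), ← hm', ← hm', map_smul, map_smul, hy, smul_comm, sub_self]
  choose b hb using hov
  let B := (Finset.univ ×ˢ Finset.univ : Finset (ι × ι)).sup fun kl => b kl.1 kl.2
  let C := A + B
  let m'' : ι → N := fun k => g k ^ B • m' k
  have key : ∀ k l, g l ^ C • m'' k = g k ^ C • m'' l := fun k l => by
    obtain ⟨j, hj⟩ := Nat.exists_eq_add_of_le
      (Finset.le_sup (f := fun kl : ι × ι => b kl.1 kl.2) (Finset.mem_univ (k, l)))
    have h0 : (g k * g l) ^ B • (g l ^ A • m' k - g k ^ A • m' l) = 0 := by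
      show (g k * g l) ^ B • _ = 0
      rw [show B = j + b k l from hj.trans (add_comm _ _), pow_add, mul_smul, hb, smul_zero]
    rw [smul_sub, sub_eq_zero, smul_smul, smul_smul] at h0
    simp only [m'', C, smul_smul]
    rw [show g l ^ (A + B) * g k ^ B = (g k * g l) ^ B * g l ^ A by ring,
      show g k ^ (A + B) * g l ^ B = (g k * g l) ^ B * g k ^ A by ring]
    exact h0
  have hm'' : ∀ k, g k ^ C • y k = f k (m'' k) := fun k => by
    simp only [m'', C, map_smul, ← hm', smul_smul, ← pow_add, add_comm B A]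
  have htop := Ideal.span_pow_eq_top (Set.range g) hg C
  rw [← Set.range_comp] at htop
  obtain ⟨c, hc⟩ := Ideal.mem_span_range_iff_exists_fun.1 ((Ideal.eq_top_iff_one _).1 htop)
  simp only [Function.comp_apply] at hc
  refine ⟨∑ l, c l • m'' l, fun k => ?_⟩
  apply IsLocalizedModule.smul_injective (f k) (⟨g k ^ C, C, rfl⟩ : Submonoid.powers (g k))
  show g k ^ C • f k _ = g k ^ C • y k
  rw [hm'', ← map_smul]
  congr 1
  rw [Finset.smul_sum]
  calc ∑ l, g k ^ C • c l • m'' l = ∑ l, (c l * g l ^ C) • m'' k := Finset.sum_congr rfl fun l _ => by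
        rw [smul_comm, ← key k l, smul_smul]
    _ = m'' k := by rw [← Finset.sum_smul, hc, one_smul]

end Glue

end Groth.Agent.FlatMor12.NLSheaf
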