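import Groth.Prelude.Def_SheafNL
import Groth.Agent.FlatMor12.NLSheaf.Algebra
import Mathlib.Algebra.Category.Ring.Epi
import Mathlib.AlgebraicGeometry.Morphisms.Flat

/-!
# The restriction maps between the first cotangent homologies of affine chart pairs
-/

set_option autoImplicit false
set_option backward.isDefEq.respectTransparency.types false
universe u

open CategoryTheory AlgebraicGeometry TopologicalSpace Opposite

noncomputable section

namespace Groth.Agent.FlatMor12.NLSheaf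

theorem tower_of_comp {A B C : CommRingCat.{u}} (f : A ⟶ B) (g : B ⟶ C) (h : A ⟶ C) (he : f ≫ g = h) :
    letI := f.hom.toAlgebra
    letI := g.hom.toAlgebra
    letI := h.hom.toAlgebra
    IsScalarTower A B C :=
  letI := f.hom.toAlgebra
  letI := g.hom.toAlgebra
  letI := h.hom.toAlgebra
  IsScalarTower.of_algebraMap_eq' (by
    show h.hom = g.hom.comp f.hom
    rw [← CommRingCat.hom_comp, he])

theorem flat_res {Y : Scheme.{u}} {V W : Y.affineOpens} (h : (W : Y.Opens) ≤ V) :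
    (Y.presheaf.map (homOfLE h).op).hom.Flat := by
  have h2 := HasRingHomProperty.appLE @Flat (𝟙 Y) inferInstance V W h
  exact h2

theorem epi_res {Y : Scheme.{u}} {V W : Y.affineOpens} (h : (W : Y.Opens) ≤ V) :
    Epi (Y.presheaf.map (homOfLE h).op) := by
  have : IsOpenImmersion (Spec.map (Y.presheaf.map (homOfLE h).op)) := by
    haveI : IsOpenImmersion (Spec.map (Y.presheaf.map (homOfLE h).op) ≫ V.2.fromSpec) := by
      rw [IsAffineOpen.map_fromSpec V.2 W.2 (homOfLE h).op]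
      infer_instance
    exact IsOpenImmersion.of_comp _ V.2.fromSpec
  refine ⟨fun {Z} a b hab => Spec.map_injective ?_⟩
  rw [← cancel_mono (Spec.map (Y.presheaf.map (homOfLE h).op)), ← Spec.map_comp, ← Spec.map_comp, hab]

variable {X Y : Scheme.{u}} {f : X ⟶ Y}

theorem chartRes_comp {U U' U'' : X.affineOpens} {V V' V'' : Y.affineOpens}
    (e : (U : X.Opens) ≤ f ⁻¹ᵁ (V : Y.Opens)) (e' : (U' : X.Opens) ≤ f ⁻¹ᵁ (V' : Y.Opens))
    (e'' : (U'' : X.Opens) ≤ f ⁻¹ᵁ (V'' : Y.Opens))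
    (hU : (U' : X.Opens) ≤ U) (hV : (V' : Y.Opens) ≤ V) (hU' : (U'' : X.Opens) ≤ U') (hV' : (V'' : Y.Opens) ≤ V')
    (x : NLCx.ChartH1 f U V e) :
    NLCx.chartRes e' e'' hU' hV' (NLCx.chartRes e e' hU hV x) =
      NLCx.chartRes e e'' (hU'.trans hU) (hV'.trans hV) x := by
  letI := (f.appLE (V : Y.Opens) (U : X.Opens) e).hom.toAlgebra
  letI := (f.appLE (V' : Y.Opens) (U' : X.Opens) e').hom.toAlgebra
  letI := (f.appLE (V'' : Y.Opens) (U'' : X.Opens) e'').hom.toAlgebra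
  letI := (f.appLE (V : Y.Opens) (U' : X.Opens) (hU.trans e)).hom.toAlgebra
  letI := (f.appLE (V : Y.Opens) (U'' : X.Opens) ((hU'.trans hU).trans e)).hom.toAlgebra
  letI := (f.appLE (V' : Y.Opens) (U'' : X.Opens) (hU'.trans e')).hom.toAlgebra
  letI := (X.presheaf.map (homOfLE hU).op).hom.toAlgebra
  letI := (X.presheaf.map (homOfLE hU').op).hom.toAlgebra
  letI := (X.presheaf.map (homOfLE (hU'.trans hU)).op).hom.toAlgebra
  letI := (Y.presheaf.map (homOfLE hV).op).hom.toAlgebra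
  letI := (Y.presheaf.map (homOfLE hV').op).hom.toAlgebra
  letI := (Y.presheaf.map (homOfLE (hV'.trans hV)).op).hom.toAlgebra
  haveI : IsScalarTower Γ(Y, (V : Y.Opens)) Γ(Y, (V' : Y.Opens)) Γ(Y, (V'' : Y.Opens)) :=
    tower_of_comp _ _ _ ((Y.presheaf.map_comp _ _).symm.trans rfl)
  haveI : IsScalarTower Γ(X, (U : X.Opens)) Γ(X, (U' : X.Opens)) Γ(X, (U'' : X.Opens)) :=
    tower_of_comp _ _ _ ((X.presheaf.map_comp _ _).symm.trans rfl)
  haveI : IsScalarTower Γ(Y, (V : Y.Opens)) Γ(Y, (V' : Y.Opens)) Γ(X, (U' : X.Opens)) :=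
    tower_of_comp _ _ _ (Scheme.Hom.map_appLE _ _ _)
  haveI : IsScalarTower Γ(Y, (V : Y.Opens)) Γ(X, (U : X.Opens)) Γ(X, (U' : X.Opens)) :=
    tower_of_comp _ _ _ (Scheme.Hom.appLE_map _ _ _)
  haveI : IsScalarTower Γ(Y, (V' : Y.Opens)) Γ(Y, (V'' : Y.Opens)) Γ(X, (U'' : X.Opens)) :=
    tower_of_comp _ _ _ (Scheme.Hom.map_appLE _ _ _)
  haveI : IsScalarTower Γ(Y, (V' : Y.Opens)) Γ(X, (U' : X.Opens)) Γ(X, (U'' : X.Opens)) :=
    tower_of_comp _ _ _ (Scheme.Hom.appLE_map _ _ _)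
  haveI : IsScalarTower Γ(Y, (V : Y.Opens)) Γ(Y, (V'' : Y.Opens)) Γ(X, (U'' : X.Opens)) :=
    tower_of_comp _ _ _ (Scheme.Hom.map_appLE _ _ _)
  haveI : IsScalarTower Γ(Y, (V : Y.Opens)) Γ(X, (U : X.Opens)) Γ(X, (U'' : X.Opens)) :=
    tower_of_comp _ _ _ (Scheme.Hom.appLE_map _ _ _)
  exact map_map x

theorem chartRes_smul {U U' : X.affineOpens} {V V' : Y.affineOpens} (e : (U : X.Opens) ≤ f ⁻¹ᵁ (V : Y.Opens))
    (e' : (U' : X.Opens) ≤ f ⁻¹ᵁ (V' : Y.Opens)) (hU : (U' : X.Opens) ≤ U) (hV : (V' : Y.Opens) ≤ V)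
    (a : Γ(X, (U : X.Opens))) (x : NLCx.ChartH1 f U V e) :
    NLCx.chartRes e e' hU hV (a • x) = X.presheaf.map (homOfLE hU).op a • NLCx.chartRes e e' hU hV x := by
  letI := (f.appLE (V : Y.Opens) (U : X.Opens) e).hom.toAlgebra
  letI := (f.appLE (V' : Y.Opens) (U' : X.Opens) e').hom.toAlgebra
  letI := (f.appLE (V : Y.Opens) (U' : X.Opens) (hU.trans e)).hom.toAlgebra
  letI := (X.presheaf.map (homOfLE hU).op).hom.toAlgebra
  letI := (Y.presheaf.map (homOfLE hV).op).hom.toAlgebra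
  haveI : IsScalarTower Γ(Y, (V : Y.Opens)) Γ(Y, (V' : Y.Opens)) Γ(X, (U' : X.Opens)) :=
    tower_of_comp _ _ _ (Scheme.Hom.map_appLE _ _ _)
  haveI : IsScalarTower Γ(Y, (V : Y.Opens)) Γ(X, (U : X.Opens)) Γ(X, (U' : X.Opens)) :=
    tower_of_comp _ _ _ (Scheme.Hom.appLE_map _ _ _)
  exact ((Algebra.H1Cotangent.map Γ(Y, (V : Y.Opens)) Γ(Y, (V' : Y.Opens)) Γ(X, (U : X.Opens))
    Γ(X, (U' : X.Opens))).map_smul a x).trans (algebraMap_smul Γ(X, (U' : X.Opens)) a _).symm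

/-- Restriction to a basic open of the source, and to any affine open of the target, is a localization. -/
theorem chartRes_localizes {U U' : X.affineOpens} {V V' : Y.affineOpens} (e : (U : X.Opens) ≤ f ⁻¹ᵁ (V : Y.Opens))
    (e' : (U' : X.Opens) ≤ f ⁻¹ᵁ (V' : Y.Opens)) (hU : (U' : X.Opens) ≤ U) (hV : (V' : Y.Opens) ≤ V)
    (g : Γ(X, (U : X.Opens))) (hg : (U' : X.Opens) = X.basicOpen g) :
    (∀ x, NLCx.chartRes e e' hU hV x = 0 → ∃ n : ℕ, g ^ n • x = 0) ∧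
      ∀ y, ∃ (n : ℕ) (x : NLCx.ChartH1 f U V e),
        NLCx.chartRes e e' hU hV x = X.presheaf.map (homOfLE hU).op (g ^ n) • y := by
  obtain ⟨U', hU'⟩ := U'
  subst hg
  letI := (f.appLE (V : Y.Opens) (U : X.Opens) e).hom.toAlgebra
  letI := (f.appLE (V' : Y.Opens) (X.basicOpen g) e').hom.toAlgebra
  letI := (f.appLE (V : Y.Opens) (X.basicOpen g) (hU.trans e)).hom.toAlgebra
  letI := (X.presheaf.map (homOfLE hU).op).hom.toAlgebra
  letI := (Y.presheaf.map (homOfLE hV).op).hom.toAlgebra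
  haveI : IsScalarTower Γ(Y, (V : Y.Opens)) Γ(Y, (V' : Y.Opens)) Γ(X, X.basicOpen g) :=
    tower_of_comp _ _ _ (Scheme.Hom.map_appLE _ _ _)
  haveI : IsScalarTower Γ(Y, (V : Y.Opens)) Γ(X, (U : X.Opens)) Γ(X, X.basicOpen g) :=
    tower_of_comp _ _ _ (Scheme.Hom.appLE_map _ _ _)
  haveI : Module.Flat Γ(Y, (V : Y.Opens)) Γ(Y, (V' : Y.Opens)) := flat_res hV
  haveI : Algebra.IsEpi Γ(Y, (V : Y.Opens)) Γ(Y, (V' : Y.Opens)) := CommRingCat.epi_iff_epi.1 (epi_res hV)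
  haveI : IsLocalization.Away g Γ(X, X.basicOpen g) := U.2.isLocalization_basicOpen g
  have hL := isLocalizedModule_map Γ(Y, (V : Y.Opens)) Γ(Y, (V' : Y.Opens)) Γ(X, X.basicOpen g)
    (S₀ := Γ(X, (U : X.Opens))) (Submonoid.powers g)
  refine ⟨fun x hx => ?_, fun y => ?_⟩
  · obtain ⟨⟨_, n, rfl⟩, hn⟩ := (IsLocalizedModule.eq_zero_iff (Submonoid.powers g)
      (Algebra.H1Cotangent.map Γ(Y, (V : Y.Opens)) Γ(Y, (V' : Y.Opens)) Γ(X, (U : X.Opens)) Γ(X, X.basicOpen g))).1 hx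
    exact ⟨n, hn⟩
  · obtain ⟨⟨x, ⟨_, n, rfl⟩⟩, hn⟩ := hL.surj y
    exact ⟨n, x, hn.symm.trans (algebraMap_smul Γ(X, X.basicOpen g) (g ^ n) y).symm⟩

theorem chartRes_bijective {U U' : X.affineOpens} {V V' : Y.affineOpens} (e : (U : X.Opens) ≤ f ⁻¹ᵁ (V : Y.Opens))
    (e' : (U' : X.Opens) ≤ f ⁻¹ᵁ (V' : Y.Opens)) (hU : (U' : X.Opens) ≤ U) (hV : (V' : Y.Opens) ≤ V)
    (hUU : (U' : X.Opens) = U) : Function.Bijective (NLCx.chartRes e e' hU hV) := by
  obtain ⟨h1, h2⟩ := chartRes_localizes e e' hU hV 1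
    (hUU.trans (Scheme.basicOpen_of_isUnit X (isUnit_one : IsUnit (1 : Γ(X, (U : X.Opens))))).symm)
  refine ⟨(injective_iff_map_eq_zero _).2 fun x hx => ?_, fun y => ?_⟩
  · obtain ⟨n, hn⟩ := h1 x hx
    simpa using hn
  · obtain ⟨n, x, hx⟩ := h2 y
    exact ⟨x, by simpa using hx⟩

theorem chartRes_self {U : X.affineOpens} {V : Y.affineOpens} (e : (U : X.Opens) ≤ f ⁻¹ᵁ (V : Y.Opens))
    (x : NLCx.ChartH1 f U V e) : NLCx.chartRes e e le_rfl le_rfl x = x := by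
  obtain ⟨hinj, -⟩ := chartRes_bijective e e le_rfl le_rfl rfl
  exact hinj (chartRes_comp e e e le_rfl le_rfl le_rfl le_rfl x)

end Groth.Agent.FlatMor12.NLSheaf
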