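import Groth.Agent.FlatMor12.NLSheaf.Algebra
import Mathlib.RingTheory.IsTensorProduct
import Mathlib.RingTheory.Smooth.Kaehler

/-!
# The class in `H¹` of an element of the kernel; surjective ring maps
-/

set_option autoImplicit false
universe u

open TensorProduct Algebra

noncomputable section

namespace Groth.Agent.FlatMor12.NLSheaf

variable (R S : Type u) [CommRing R] [CommRing S] [Algebra R S]

/-- The extension by the identity of `R` for its kernel. -/
def kerElt (s : RingHom.ker (algebraMap R S)) : (Generators.self R S).toExtension.ker :=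
  ⟨MvPolynomial.C (s : R), by
    show algebraMap (Generators.self R S).Ring S (MvPolynomial.C (s : R)) = 0
    rw [← MvPolynomial.algebraMap_eq, ← IsScalarTower.algebraMap_apply]
    exact s.2⟩

/-- The class of an element of the kernel of `R → S` in `H¹(L_{S/R})`. -/
def delta : RingHom.ker (algebraMap R S) →ₗ[R] H1Cotangent R S where
  toFun s := ⟨Extension.Cotangent.mk (kerElt R S s), by
    show (Generators.self R S).toExtension.cotangentComplex _ = 0
    rw [Extension.cotangentComplex_mk]
    show (1 : S) ⊗ₜ KaehlerDifferential.D R _ (algebraMap R (Generators.self R S).toExtension.Ring (s : R)) = 0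
    rw [Derivation.map_algebraMap, tmul_zero]⟩
  map_add' s t := by
    ext : 1
    show Extension.Cotangent.mk _ = Extension.Cotangent.mk _ + Extension.Cotangent.mk _
    rw [← map_add]
    congr 1
    exact Subtype.ext (map_add MvPolynomial.C (s : R) (t : R))
  map_smul' a s := by
    ext : 1
    show Extension.Cotangent.mk _ = a • Extension.Cotangent.mk _
    rw [← algebraMap_smul (Generators.self R S).toExtension.Ring a (Extension.Cotangent.mk _), ← map_smul]
    congr 1
    exact Subtype.ext (map_mul MvPolynomial.C a (s : R))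

theorem delta_val (s : RingHom.ker (algebraMap R S)) :
    (delta R S s).1 = Extension.Cotangent.mk (kerElt R S s) := rfl

section Naturality

variable (R' S' : Type u) [CommRing R'] [CommRing S'] [Algebra R' S'] [Algebra R R'] [Algebra S S']
  [Algebra R S'] [IsScalarTower R R' S'] [IsScalarTower R S S']

theorem map_delta (s : RingHom.ker (algebraMap R S)) (s' : RingHom.ker (algebraMap R' S'))
    (h : (s' : R') = algebraMap R R' (s : R)) :
    H1Cotangent.map R R' S S' (delta R S s) = delta R' S' s' := by
  ext : 1
  show Extension.Cotangent.map _ (Extension.Cotangent.mk (kerElt R S s)) = Extension.Cotangent.mk _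
  rw [Extension.Cotangent.map_mk]
  congr 1
  refine Subtype.ext ?_
  show Generators.Hom.toAlgHom _ (MvPolynomial.C (s : R)) = MvPolynomial.C (s' : R')
  rw [Generators.Hom.toAlgHom_C, h]

end Naturality

section Surjective

variable {R S}

/-- For surjective `R → S`, `H¹(L_{S/R})` is the base change of the kernel. -/
theorem isBaseChange_delta (h : Function.Surjective (algebraMap R S)) :
    IsBaseChange S (delta R S) := by
  let P₀ : Extension R S := Extension.ofSurjective (Algebra.ofId R S) h
  haveI : FormallySmooth R P₀.Ring := inferInstanceAs (FormallySmooth R R)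
  haveI : FormallySmooth R (Generators.self R S).toExtension.Ring :=
    inferInstanceAs (FormallySmooth R (Generators.self R S).Ring)
  let f : P₀.Hom (Generators.self R S).toExtension :=
    { toRingHom := (MvPolynomial.C : R →+* MvPolynomial S R)
      toRingHom_algebraMap := fun r => rfl
      algebraMap_toRingHom := fun r => (IsScalarTower.algebraMap_apply R (Generators.self R S).Ring S r).symm }
  have hf : Function.Bijective (Extension.H1Cotangent.map f) := by
    rw [← Extension.H1Cotangent.equivOfFormallySmooth_toLinearMap f]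
    exact LinearEquiv.bijective _
  have hΩ : Subsingleton (Ω[P₀.Ring⁄R]) :=
    KaehlerDifferential.subsingleton_of_surjective R R Function.surjective_id
  have hspace : Subsingleton P₀.CotangentSpace :=
    inferInstanceAs (Subsingleton (S ⊗[P₀.Ring] Ω[P₀.Ring⁄R]))
  let δ₀ : RingHom.ker (algebraMap R S) → P₀.H1Cotangent := fun s =>
    ⟨Extension.Cotangent.mk ⟨(s : R), s.2⟩, @Subsingleton.elim _ hspace _ _⟩
  have hδ₀ : ∀ s, Extension.H1Cotangent.map f (δ₀ s) = delta R S s := fun s => by
    ext : 1
    show Extension.Cotangent.map f (Extension.Cotangent.mk _) = _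
    rw [Extension.Cotangent.map_mk]
    rfl
  have hsurj : Function.Surjective (delta R S) := fun z => by
    obtain ⟨y, rfl⟩ := hf.2 z
    obtain ⟨t, ht⟩ := Extension.Cotangent.mk_surjective y.1
    refine ⟨⟨show R from t.1, t.2⟩, (hδ₀ _).symm.trans (congrArg _ ?_)⟩
    ext : 1
    exact ht
  have hker : ∀ s, delta R S s = 0 → (s : R) ∈ RingHom.ker (algebraMap R S) ^ 2 := fun s hs => by
    rw [← hδ₀, ← map_zero (Extension.H1Cotangent.map f)] at hs
    exact (Extension.Cotangent.mk_eq_zero_iff _).1 (congrArg Subtype.val (hf.1 hs))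
  have hone : ∀ z : S ⊗[R] RingHom.ker (algebraMap R S), ∃ x, (1 : S) ⊗ₜ x = z := fun z => by
    induction z using TensorProduct.induction_on with
    | zero => exact ⟨0, tmul_zero _ _⟩
    | tmul a x =>
      obtain ⟨r, rfl⟩ := h a
      exact ⟨r • x, by rw [← smul_tmul, Algebra.algebraMap_eq_smul_one]⟩
    | add a b ha hb =>
      obtain ⟨x, rfl⟩ := ha
      obtain ⟨y, rfl⟩ := hb
      exact ⟨x + y, tmul_add _ _ _⟩
  have hsq : ∀ a ∈ RingHom.ker (algebraMap R S) ^ 2, ∃ ha : a ∈ RingHom.ker (algebraMap R S),
      ((1 : S) ⊗ₜ[R] (⟨a, ha⟩ : RingHom.ker (algebraMap R S))) = 0 := by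
    intro a ha
    rw [pow_two] at ha
    refine Submodule.mul_induction_on ha (fun x hx y hy => ⟨Ideal.mul_mem_left _ x hy, ?_⟩) fun x y hx hy => ?_
    · rw [show (⟨x * y, Ideal.mul_mem_left _ x hy⟩ : RingHom.ker (algebraMap R S)) = x • ⟨y, hy⟩ from rfl,
        ← smul_tmul, Algebra.smul_def, mul_one, RingHom.mem_ker.1 hx, zero_tmul]
    · obtain ⟨hx1, hx2⟩ := hx
      obtain ⟨hy1, hy2⟩ := hy
      refine ⟨add_mem hx1 hy1, ?_⟩
      rw [show (⟨x + y, add_mem hx1 hy1⟩ : RingHom.ker (algebraMap R S)) = ⟨x, hx1⟩ + ⟨y, hy1⟩ from rfl,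
        tmul_add, hx2, hy2, add_zero]
  show Function.Bijective (LinearMap.liftBaseChange S (delta R S))
  refine ⟨(injective_iff_map_eq_zero _).2 fun z hz => ?_, fun y => ?_⟩
  · obtain ⟨x, rfl⟩ := hone z
    rw [LinearMap.liftBaseChange_tmul, one_smul] at hz
    obtain ⟨_, hx⟩ := hsq x (hker x hz)
    exact hx
  · obtain ⟨x, rfl⟩ := hsurj y
    exact ⟨1 ⊗ₜ x, by simp⟩

end Surjective

end Groth.Agent.FlatMor12.NLSheaf
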