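import Groth.Agent.FlatMor12.NLSheaf.Chart
import Groth.Agent.Coherent.QcohLocal
import Mathlib.Topology.Sheaves.SheafCondition.UniqueGluing
import Mathlib.Algebra.Category.ModuleCat.Presheaf

/-!
# The cohomology sheaf `H⁻¹(NL)` from the affine chart pairs
-/

set_option autoImplicit false
set_option backward.isDefEq.respectTransparency.types false
universe u

open CategoryTheory CategoryTheory.Limits AlgebraicGeometry TopologicalSpace Opposite

noncomputable section

namespace Groth.Agent.FlatMor12.NLSheaf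

variable {X Y : Scheme.{u}}

theorem exists_finite_span (U : X.affineOpens) (P : Γ(X, (U : X.Opens)) → Prop)
    (h : ∀ x ∈ (U : X.Opens), ∃ g, x ∈ X.basicOpen g ∧ P g) :
    ∃ (n : ℕ) (g : Fin n → Γ(X, (U : X.Opens))), Ideal.span (Set.range g) = ⊤ ∧ ∀ k, P (g k) := by
  have hs : Ideal.span {g | P g} = ⊤ := by
    refine (U.2.self_le_iSup_basicOpen_iff).1 fun x hx => ?_
    obtain ⟨g, hxg, hg⟩ := h x hx
    exact Opens.mem_iSup.2 ⟨⟨g, hg⟩, hxg⟩
  obtain ⟨T, hT, h1⟩ := Submodule.mem_span_finite_of_mem_span ((Ideal.eq_top_iff_one _).1 hs)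
  refine ⟨T.card, fun k => (T.equivFin.symm k : Γ(X, (U : X.Opens))), ?_, fun k => hT (T.equivFin.symm k).2⟩
  rw [Ideal.eq_top_iff_one]
  have : Set.range (fun k => (T.equivFin.symm k : Γ(X, (U : X.Opens)))) = (T : Set Γ(X, (U : X.Opens))) :=
    Set.ext fun x => ⟨fun ⟨k, hk⟩ => hk ▸ (T.equivFin.symm k).2, fun hx => ⟨T.equivFin ⟨x, hx⟩, by simp⟩⟩
  rw [this]
  exact h1

variable (f : X ⟶ Y)

/-- An affine chart pair inside an open. -/
structure Pair (O : X.Opens) where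
  U : X.affineOpens
  V : Y.affineOpens
  e : (U : X.Opens) ≤ f ⁻¹ᵁ (V : Y.Opens)
  le : (U : X.Opens) ≤ O

variable {f} {O : X.Opens}

/-- The values on a chart pair, as a module over functions on the open. -/
def Sec (p : Pair f O) : Type u := NLCx.ChartH1 f p.U p.V p.e

instance (p : Pair f O) : AddCommGroup (Sec p) :=
  inferInstanceAs (AddCommGroup (NLCx.ChartH1 f p.U p.V p.e))

instance (p : Pair f O) : Module Γ(X, O) (Sec p) :=
  Module.compHom (NLCx.ChartH1 f p.U p.V p.e) (X.presheaf.map (homOfLE p.le).op).hom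

theorem smul_def (p : Pair f O) (a : Γ(X, O)) (x : Sec p) :
    a • x = HSMul.hSMul (α := Γ(X, (p.U : X.Opens))) (β := NLCx.ChartH1 f p.U p.V p.e)
      (γ := NLCx.ChartH1 f p.U p.V p.e) (X.presheaf.map (homOfLE p.le).op a) x := rfl

/-- Restriction between chart pairs. -/
def res (p q : Pair f O) (hU : (q.U : X.Opens) ≤ p.U) (hV : (q.V : Y.Opens) ≤ p.V) :
    Sec p →ₗ[Γ(X, O)] Sec q where
  toFun := NLCx.chartRes p.e q.e hU hV
  map_add' := map_add (NLCx.chartRes p.e q.e hU hV)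
  map_smul' a x := by
    refine (chartRes_smul p.e q.e hU hV (X.presheaf.map (homOfLE p.le).op a) x).trans ?_
    exact congrArg (fun b : Γ(X, (q.U : X.Opens)) =>
        HSMul.hSMul (α := Γ(X, (q.U : X.Opens))) (β := NLCx.ChartH1 f q.U q.V q.e)
          (γ := NLCx.ChartH1 f q.U q.V q.e) b (NLCx.chartRes p.e q.e hU hV x))
      ((ConcreteCategory.congr_hom (X.presheaf.map_comp (homOfLE p.le).op (homOfLE hU).op) a).symm)

theorem res_res (p q r : Pair f O) (hU : (q.U : X.Opens) ≤ p.U) (hV : (q.V : Y.Opens) ≤ p.V)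
    (hU' : (r.U : X.Opens) ≤ q.U) (hV' : (r.V : Y.Opens) ≤ q.V) (x : Sec p) :
    res q r hU' hV' (res p q hU hV x) = res p r (hU'.trans hU) (hV'.trans hV) x :=
  chartRes_comp p.e q.e r.e hU hV hU' hV' x

/-- The chart pair on a basic open. -/
def Pair.basic (p : Pair f O) (g : Γ(X, (p.U : X.Opens))) : Pair f O :=
  ⟨⟨X.basicOpen g, p.U.2.basicOpen g⟩, p.V, (X.basicOpen_le g).trans p.e, (X.basicOpen_le g).trans p.le⟩

/-- Restriction to a basic open of the source is a localization. -/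
theorem isLocalizedModule_res (U : X.affineOpens) (V : Y.affineOpens) (e : (U : X.Opens) ≤ f ⁻¹ᵁ (V : Y.Opens))
    (g : Γ(X, (U : X.Opens))) :
    IsLocalizedModule (Submonoid.powers g)
      (res (⟨U, V, e, le_rfl⟩ : Pair f (U : X.Opens)) (Pair.basic ⟨U, V, e, le_rfl⟩ g) (X.basicOpen_le _) le_rfl) := by
  let q : Pair f (U : X.Opens) := Pair.basic ⟨U, V, e, le_rfl⟩ g
  obtain ⟨h1, h2⟩ := chartRes_localizes e q.e (X.basicOpen_le g) le_rfl g rfl
  refine IsLocalizedModule.Away.mk_of_addCommGroup ?_ ?_ ?_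
  · refine (Module.End.isUnit_iff _).2 ?_
    have hu : IsUnit (X.presheaf.map (homOfLE q.le).op g) := X.toRingedSpace.isUnit_res_basicOpen g
    have hb : Function.Bijective (fun b : NLCx.ChartH1 f q.U q.V q.e => X.presheaf.map (homOfLE q.le).op g • b) :=
      ⟨fun a b h => hu.smul_left_cancel.1 h, fun b => ⟨(↑hu.unit⁻¹ : Γ(X, (q.U : X.Opens))) • b, by
        simp only [smul_smul]
        rw [IsUnit.mul_val_inv, one_smul]⟩⟩
    exact hb
  · intro y
    obtain ⟨m, x, hx⟩ := h2 y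
    exact ⟨m, x, hx.symm⟩
  · intro x hx
    obtain ⟨m, hm⟩ := h1 x hx
    refine ⟨m, ?_⟩
    rw [smul_def]
    refine Eq.trans ?_ hm
    congr 1
    exact ConcreteCategory.congr_hom (X.presheaf.map_id (op (U : X.Opens))) _

/-- Separatedness on a finite family of basic opens. -/
theorem res_separated (p : Pair f O) {n : ℕ} (g : Fin n → Γ(X, (p.U : X.Opens)))
    (hg : Ideal.span (Set.range g) = ⊤) (t t' : Sec p)
    (h : ∀ k, res p (p.basic (g k)) (X.basicOpen_le _) le_rfl t = res p (p.basic (g k)) (X.basicOpen_le _) le_rfl t') :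
    t = t' := by
  let p₀ : Pair f (p.U : X.Opens) := ⟨p.U, p.V, p.e, le_rfl⟩
  haveI : ∀ k, IsLocalizedModule (Submonoid.powers (g k))
      (res p₀ (p₀.basic (g k)) (X.basicOpen_le _) le_rfl) := fun k => isLocalizedModule_res p.U p.V p.e (g k)
  rw [← sub_eq_zero]
  exact eq_zero_of_forall_map_eq_zero g hg
    (N := Sec p₀) (fun k => res p₀ (p₀.basic (g k)) (X.basicOpen_le _) le_rfl) (x := t - t')
    fun k => by
      show res p (p.basic (g k)) (X.basicOpen_le _) le_rfl (t - t') = 0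
      rw [map_sub, h k, sub_self]

theorem basicOpen_mul_le_left {U : X.Opens} (a b : Γ(X, U)) : X.basicOpen (a * b) ≤ X.basicOpen a := by
  rw [X.basicOpen_mul]; exact inf_le_left

theorem basicOpen_mul_le_right {U : X.Opens} (a b : Γ(X, U)) : X.basicOpen (a * b) ≤ X.basicOpen b := by
  rw [X.basicOpen_mul]; exact inf_le_right

/-- Gluing along a finite family of basic opens. -/
theorem res_glue (p : Pair f O) {n : ℕ} (g : Fin n → Γ(X, (p.U : X.Opens)))
    (hg : Ideal.span (Set.range g) = ⊤) (y : ∀ k, Sec (p.basic (g k)))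
    (hy : ∀ k l, res (p.basic (g k)) (p.basic (g k * g l)) (basicOpen_mul_le_left _ _) le_rfl (y k) =
      res (p.basic (g l)) (p.basic (g k * g l)) (basicOpen_mul_le_right _ _) le_rfl (y l)) :
    ∃ t, ∀ k, res p (p.basic (g k)) (X.basicOpen_le _) le_rfl t = y k := by
  let p₀ : Pair f (p.U : X.Opens) := ⟨p.U, p.V, p.e, le_rfl⟩
  haveI : ∀ k, IsLocalizedModule (Submonoid.powers (g k))
      (res p₀ (p₀.basic (g k)) (X.basicOpen_le _) le_rfl) := fun k => isLocalizedModule_res p.U p.V p.e (g k)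
  obtain ⟨t, ht⟩ := exists_glue g hg (N := Sec p₀) (fun k => res p₀ (p₀.basic (g k)) (X.basicOpen_le _) le_rfl)
    (Nkl := fun k l => Sec (p₀.basic (g k * g l)))
    (fun k l => res _ _ (basicOpen_mul_le_left _ _) le_rfl) (fun k l => res _ _ (basicOpen_mul_le_right _ _) le_rfl)
    (fun k l x => (res_res _ _ _ _ _ _ _ x).trans (res_res _ _ _ _ _ _ _ x).symm)
    (fun k l x hx => by
      obtain ⟨h1, -⟩ := chartRes_localizes p.e (p.basic (g k * g l)).e (X.basicOpen_le _) le_rfl (g k * g l) rfl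
      obtain ⟨m, hm⟩ := h1 x ((res_res p₀ _ (p₀.basic (g k * g l)) _ _ _ _ x).symm.trans hx)
      refine ⟨m, ?_⟩
      rw [smul_def]
      refine Eq.trans ?_ hm
      congr 1
      exact ConcreteCategory.congr_hom (X.presheaf.map_id (op (p.U : X.Opens))) _)
    y hy
  exact ⟨t, ht⟩

/-- A value on a pair is determined by the pairs over a smaller open of the target. -/
theorem ext_small (q : Pair f O) (V₀ : Y.Opens) (h₀ : (q.U : X.Opens) ≤ f ⁻¹ᵁ V₀) (t t' : Sec q)
    (h : ∀ (r : Pair f O) (hU : (r.U : X.Opens) ≤ q.U) (hV : (r.V : Y.Opens) ≤ q.V), (r.V : Y.Opens) ≤ V₀ →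
      res q r hU hV t = res q r hU hV t') : t = t' := by
  obtain ⟨n, g, hg, hP⟩ := exists_finite_span q.U (fun g => ∃ W : Y.affineOpens,
    (W : Y.Opens) ≤ q.V ∧ (W : Y.Opens) ≤ V₀ ∧ X.basicOpen g ≤ f ⁻¹ᵁ (W : Y.Opens)) fun x hx => by
    obtain ⟨W, hW, hxW, hWle⟩ := Opens.isBasis_iff_nbhd.1 Y.isBasis_affineOpens
      (show f x ∈ (q.V : Y.Opens) ⊓ V₀ from ⟨q.e hx, h₀ hx⟩)
    obtain ⟨g, hgle, hxg⟩ := q.U.2.exists_basicOpen_le (V := f ⁻¹ᵁ W) ⟨x, hxW⟩ hx
    exact ⟨g, hxg, ⟨W, hW⟩, hWle.trans inf_le_left, hWle.trans inf_le_right, hgle⟩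
  refine res_separated q g hg t t' fun k => ?_
  obtain ⟨W, hWV, hW0, hgW⟩ := hP k
  let r : Pair f O := ⟨⟨X.basicOpen (g k), q.U.2.basicOpen _⟩, W, hgW, (X.basicOpen_le _).trans q.le⟩
  apply (chartRes_bijective (q.basic (g k)).e r.e le_rfl hWV rfl).1
  show res (q.basic (g k)) r le_rfl hWV (res q _ _ _ t) = res (q.basic (g k)) r le_rfl hWV (res q _ _ _ t')
  rw [res_res, res_res]
  exact h r _ _ hW0

variable (f)

/-- Compatible families of values on the chart pairs inside an open. -/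
def fam (O : X.Opens) : Submodule Γ(X, O) (∀ p : Pair f O, Sec p) where
  carrier := {s | ∀ (p q : Pair f O) (hU : (q.U : X.Opens) ≤ p.U) (hV : (q.V : Y.Opens) ≤ p.V),
    res p q hU hV (s p) = s q}
  add_mem' := fun {s t} hs ht p q hU hV => by
    show res p q hU hV (s p + t p) = s q + t q
    rw [map_add, hs p q hU hV, ht p q hU hV]
  zero_mem' := fun p q hU hV => map_zero _
  smul_mem' := fun a s hs p q hU hV => by
    show res p q hU hV (a • s p) = a • s q
    rw [map_smul, hs p q hU hV]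

/-- A chart pair inside a smaller open, seen in a bigger one. -/
def Pair.mono {O O' : X.Opens} (h : O' ≤ O) (p : Pair f O') : Pair f O := ⟨p.U, p.V, p.e, p.le.trans h⟩

/-- Restriction of families. -/
def famRes {O O' : X.Opens} (h : O' ≤ O) : fam f O →+ fam f O' where
  toFun s := ⟨fun p => s.1 (p.mono f h), fun p q hU hV => s.2 (p.mono f h) (q.mono f h) hU hV⟩
  map_zero' := rfl
  map_add' _ _ := rfl

/-- The presheaf of compatible families. -/
def famPre : (X.Opens)ᵒᵖ ⥤ Ab.{u} where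
  obj U := AddCommGrpCat.of (fam f U.unop)
  map i := AddCommGrpCat.ofHom (famRes f (leOfHom i.unop))
  map_id _ := rfl
  map_comp _ _ := rfl

theorem isSheaf_famPre : TopCat.Presheaf.IsSheaf (X := X.toTopCat) (famPre f) := by
  rw [TopCat.Presheaf.isSheaf_iff_isSheafUniqueGluing]
  intro ι V sf hc
  have hcomp : ∀ (i j : ι) (r : Pair f (iSup V)) (hi : (r.U : X.Opens) ≤ V i) (hj : (r.U : X.Opens) ≤ V j),
      (show Sec r from (sf i).1 ⟨r.U, r.V, r.e, hi⟩) = (sf j).1 ⟨r.U, r.V, r.e, hj⟩ := fun i j r hi hj =>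
    congrArg (fun s : fam f (V i ⊓ V j) => s.1 ⟨r.U, r.V, r.e, le_inf hi hj⟩) (hc i j)
  have hg : ∀ p : Pair f (iSup V), ∃! t : Sec p, ∀ (i : ι) (r : Pair f (iSup V)) (hi : (r.U : X.Opens) ≤ V i)
      (hU : (r.U : X.Opens) ≤ p.U) (hV : (r.V : Y.Opens) ≤ p.V),
      res p r hU hV t = (sf i).1 ⟨r.U, r.V, r.e, hi⟩ := by
    intro p
    obtain ⟨n, g, hg, hP⟩ := exists_finite_span p.U (fun g => ∃ i, X.basicOpen g ≤ V i) fun x hx => by
      obtain ⟨i, hxi⟩ := Opens.mem_iSup.1 (p.le hx)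
      obtain ⟨g, hgle, hxg⟩ := p.U.2.exists_basicOpen_le (V := V i) ⟨x, hxi⟩ hx
      exact ⟨g, hxg, i, hgle⟩
    choose i hi using hP
    obtain ⟨t, ht⟩ := res_glue p g hg (fun k => (sf (i k)).1 ⟨(p.basic (g k)).U, p.V, (p.basic (g k)).e, hi k⟩)
      fun k l => by
        refine Eq.trans ((sf (i k)).2 ⟨(p.basic (g k)).U, p.V, (p.basic (g k)).e, hi k⟩
          ⟨(p.basic (g k * g l)).U, p.V, (p.basic (g k * g l)).e, (basicOpen_mul_le_left _ _).trans (hi k)⟩
          (basicOpen_mul_le_left _ _) le_rfl) ?_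
        refine Eq.trans (hcomp (i k) (i l) (p.basic (g k * g l)) _ ((basicOpen_mul_le_right _ _).trans (hi l))) ?_
        exact ((sf (i l)).2 ⟨(p.basic (g l)).U, p.V, (p.basic (g l)).e, hi l⟩
          ⟨(p.basic (g k * g l)).U, p.V, (p.basic (g k * g l)).e, (basicOpen_mul_le_right _ _).trans (hi l)⟩
          (basicOpen_mul_le_right _ _) le_rfl).symm
    refine ⟨t, fun j r hj hU hV => ?_, fun t' ht' => res_separated p g hg _ _ fun k => ?_⟩
    · let g' : Fin n → Γ(X, (r.U : X.Opens)) := fun k => X.presheaf.map (homOfLE hU).op (g k)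
      have hg' : Ideal.span (Set.range g') = ⊤ := by
        have := congrArg (Ideal.map (X.presheaf.map (homOfLE hU).op).hom) hg
        rw [Ideal.map_span, Ideal.map_top, ← Set.range_comp] at this
        exact this
      refine res_separated r g' hg' _ _ fun k => ?_
      have hle : X.basicOpen (g' k) ≤ X.basicOpen (g k) := by
        rw [X.basicOpen_res]; exact inf_le_right
      rw [res_res, ← res_res p (p.basic (g k)) (r.basic (g' k)) (X.basicOpen_le _) le_rfl hle hV, ht k]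
      refine Eq.trans ((sf (i k)).2 ⟨(p.basic (g k)).U, p.V, (p.basic (g k)).e, hi k⟩
        ⟨(r.basic (g' k)).U, r.V, (r.basic (g' k)).e, hle.trans (hi k)⟩ hle hV) ?_
      refine Eq.trans (hcomp (i k) j (r.basic (g' k)) _ ((X.basicOpen_le _).trans hj)) ?_
      exact ((sf j).2 ⟨r.U, r.V, r.e, hj⟩
        ⟨(r.basic (g' k)).U, r.V, (r.basic (g' k)).e, (X.basicOpen_le _).trans hj⟩ (X.basicOpen_le _) le_rfl).symm
    · rw [ht k]
      exact ht' (i k) (p.basic (g k)) (hi k) (X.basicOpen_le _) le_rfl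
  choose t ht htu using hg
  refine ⟨⟨t, fun p q hU hV => htu q _ fun i r hi hU' hV' => ?_⟩, fun i => ?_, fun s hs => ?_⟩
  · rw [res_res]
    exact ht p i r hi _ _
  · refine Subtype.ext (funext fun p => ?_)
    show t (p.mono f (le_iSup V i)) = (sf i).1 p
    refine (htu (p.mono f (le_iSup V i)) _ fun j r hj hU hV => ?_).symm
    refine Eq.trans ((sf i).2 p ⟨r.U, r.V, r.e, hU.trans p.le⟩ hU hV) ?_
    exact hcomp i j r _ _
  · refine Subtype.ext (funext fun p => htu p _ fun i r hi hU hV => ?_)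
    refine Eq.trans (s.2 p r hU hV) ?_
    exact congrArg (fun z : fam f (V i) => z.1 ⟨r.U, r.V, r.e, hi⟩) (hs i)

instance famPre.instModule (U : (X.Opens)ᵒᵖ) : Module (X.ringCatSheaf.obj.obj U) ((famPre f).obj U) :=
  inferInstanceAs (Module Γ(X, U.unop) (fam f U.unop))

/-- The module `H⁻¹(NL)`. -/
def h1Module : X.Modules where
  val := PresheafOfModules.ofPresheaf (famPre f) (fun {U U'} i a s => by
    refine Subtype.ext (funext fun p => ?_)
    exact congrArg (fun b : Γ(X, (p.U : X.Opens)) =>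
        HSMul.hSMul (α := Γ(X, (p.U : X.Opens))) (β := NLCx.ChartH1 f p.U p.V p.e)
          (γ := NLCx.ChartH1 f p.U p.V p.e) b (s.1 (p.mono f (leOfHom i.unop))))
      (ConcreteCategory.congr_hom (X.presheaf.map_comp i (homOfLE p.le).op) a))
  isSheaf := isSheaf_famPre f

/-- A family is determined by the pairs over an open containing the image. -/
theorem fam_ext {O : X.Opens} (V₀ : Y.Opens) (h₀ : O ≤ f ⁻¹ᵁ V₀) {s s' : fam f O}
    (h : ∀ r : Pair f O, (r.V : Y.Opens) ≤ V₀ → s.1 r = s'.1 r) : s = s' :=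
  Subtype.ext (funext fun q => ext_small q V₀ (q.le.trans h₀) _ _ fun r hU hV hV0 => by
    rw [s.2 q r hU hV, s'.2 q r hU hV]
    exact h r hV0)

/-- A compatible family on the pairs over an open containing the image extends to all pairs. -/
theorem exists_fam {O : X.Opens} (V₀ : Y.Opens) (h₀ : O ≤ f ⁻¹ᵁ V₀)
    (m : ∀ r : Pair f O, (r.V : Y.Opens) ≤ V₀ → Sec r)
    (hm : ∀ (r r' : Pair f O) (hr : (r.V : Y.Opens) ≤ V₀) (hr' : (r'.V : Y.Opens) ≤ V₀)
      (hU : (r'.U : X.Opens) ≤ r.U) (hV : (r'.V : Y.Opens) ≤ r.V), res r r' hU hV (m r hr) = m r' hr') :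
    ∃ s : fam f O, ∀ (r : Pair f O) (hr : (r.V : Y.Opens) ≤ V₀), s.1 r = m r hr := by
  have hex : ∀ q : Pair f O, ∃! t : Sec q, ∀ (r : Pair f O) (hU : (r.U : X.Opens) ≤ q.U)
      (hV : (r.V : Y.Opens) ≤ q.V) (hV0 : (r.V : Y.Opens) ≤ V₀), res q r hU hV t = m r hV0 := by
    intro q
    obtain ⟨n, g, hg, hP⟩ := exists_finite_span q.U (fun g => ∃ W : Y.affineOpens,
      (W : Y.Opens) ≤ q.V ∧ (W : Y.Opens) ≤ V₀ ∧ X.basicOpen g ≤ f ⁻¹ᵁ (W : Y.Opens)) fun x hx => by
      obtain ⟨W, hW, hxW, hWle⟩ := Opens.isBasis_iff_nbhd.1 Y.isBasis_affineOpens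
        (show f x ∈ (q.V : Y.Opens) ⊓ V₀ from ⟨q.e hx, h₀ (q.le hx)⟩)
      obtain ⟨g, hgle, hxg⟩ := q.U.2.exists_basicOpen_le (V := f ⁻¹ᵁ W) ⟨x, hxW⟩ hx
      exact ⟨g, hxg, ⟨W, hW⟩, hWle.trans inf_le_left, hWle.trans inf_le_right, hgle⟩
    choose W hWq hW0 hgW using hP
    let rW : Fin n → Pair f O := fun k => ⟨(q.basic (g k)).U, W k, hgW k, (q.basic (g k)).le⟩
    choose y hy using fun k => (chartRes_bijective (q.basic (g k)).e (rW k).e le_rfl (hWq k) rfl).2
      (m (rW k) (hW0 k))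
    have hgood : ∀ k (r : Pair f O) (hU : (r.U : X.Opens) ≤ X.basicOpen (g k))
        (hV : (r.V : Y.Opens) ≤ q.V) (hV0 : (r.V : Y.Opens) ≤ V₀),
        res (q.basic (g k)) r hU hV (y k) = m r hV0 := by
      intro k r hU hV hV0
      refine ext_small r (W k) (hU.trans (hgW k)) _ _ fun r' hU' hV' hW' => ?_
      rw [res_res, ← res_res (q.basic (g k)) (rW k) r' le_rfl (hWq k) (hU'.trans hU) hW']
      erw [hy k]
      exact (hm (rW k) r' (hW0 k) (hV'.trans hV0) (hU'.trans hU) hW').trans (hm r r' hV0 _ hU' hV').symm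
    obtain ⟨t, ht⟩ := res_glue q g hg y fun k l => by
      refine ext_small _ V₀ (fun x hx => h₀ ((q.basic (g k * g l)).le hx)) _ _ fun r hU hV hV0 => ?_
      rw [res_res, res_res, hgood k r (hU.trans (basicOpen_mul_le_left _ _)) hV hV0,
        hgood l r (hU.trans (basicOpen_mul_le_right _ _)) hV hV0]
    refine ⟨t, fun r hU hV hV0 => ?_, fun t' ht' => res_separated q g hg _ _ fun k => ?_⟩
    · let g' : Fin n → Γ(X, (r.U : X.Opens)) := fun k => X.presheaf.map (homOfLE hU).op (g k)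
      have hg' : Ideal.span (Set.range g') = ⊤ := by
        have := congrArg (Ideal.map (X.presheaf.map (homOfLE hU).op).hom) hg
        rw [Ideal.map_span, Ideal.map_top, ← Set.range_comp] at this
        exact this
      refine res_separated r g' hg' _ _ fun k => ?_
      have hle : X.basicOpen (g' k) ≤ X.basicOpen (g k) := by
        rw [X.basicOpen_res]; exact inf_le_right
      rw [res_res, ← res_res q (q.basic (g k)) (r.basic (g' k)) (X.basicOpen_le _) le_rfl hle hV, ht k,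
        hgood k (r.basic (g' k)) hle hV hV0]
      exact (hm r (r.basic (g' k)) hV0 hV0 (X.basicOpen_le _) le_rfl).symm
    · rw [ht k]
      refine ext_small _ V₀ (fun x hx => h₀ ((q.basic (g k)).le hx)) _ _ fun r hU hV hV0 => ?_
      rw [res_res, hgood k r hU hV hV0]
      exact ht' r _ hV hV0
  choose t ht htu using hex
  refine ⟨⟨t, fun p q hU hV => htu q _ fun r hU' hV' hV0 => by rw [res_res]; exact ht p r _ _ hV0⟩,
    fun r hr => (htu r _ fun r' hU hV hV0 => hm r r' hr hV0 hU hV).symm⟩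

/-- Evaluation at a pair with source the open itself. -/
theorem eval_bijective (U : X.affineOpens) (V : Y.affineOpens) (e : (U : X.Opens) ≤ f ⁻¹ᵁ (V : Y.Opens)) :
    Function.Bijective (fun s : fam f (U : X.Opens) => (s.1 ⟨U, V, e, le_rfl⟩ : NLCx.ChartH1 f U V e)) := by
  let p₀ : Pair f (U : X.Opens) := ⟨U, V, e, le_rfl⟩
  refine ⟨fun s s' hs => fam_ext f (V : Y.Opens) e fun r hr => ?_, fun m => ?_⟩
  · rw [← s.2 p₀ r r.le hr, ← s'.2 p₀ r r.le hr]
    exact congrArg (res p₀ r r.le hr) hs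
  · obtain ⟨s, hs⟩ := exists_fam f (V : Y.Opens) e (fun r hr => res p₀ r r.le hr m)
      fun r r' hr hr' hU hV => res_res _ _ _ _ _ _ _ _
    exact ⟨s, (hs p₀ le_rfl).trans (chartRes_self e m)⟩

/-- The chart data of `h1Module`. -/
def h1Sheaf : NLCx.H1Sheaf f (h1Module f) where
  iso U V e := AddEquiv.ofBijective
    (AddMonoidHom.mk' (fun s : fam f (U : X.Opens) => (s.1 ⟨U, V, e, le_rfl⟩ : NLCx.ChartH1 f U V e))
      fun _ _ => rfl) (eval_bijective f U V e)
  map_smul U V e a s := by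
    show HSMul.hSMul (α := Γ(X, (U : X.Opens))) (β := NLCx.ChartH1 f U V e) (γ := NLCx.ChartH1 f U V e)
      (X.presheaf.map (homOfLE (le_refl (U : X.Opens))).op a) _ = a • _
    congr 1
    exact ConcreteCategory.congr_hom (X.presheaf.map_id (op (U : X.Opens))) a
  map_res {U U' V V'} e e' hU hV s :=
    ((show fam f (U : X.Opens) from s).2 ⟨U, V, e, le_rfl⟩ ⟨U', V', e', hU⟩ hU hV).symm

variable {f}

/-- Any sheaf with the chart data is quasi-coherent. -/
theorem isQCoh_of_h1Sheaf {F : X.Modules} (c : NLCx.H1Sheaf f F) : Coh.IsQCoh F := by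
  let ι := {U : X.affineOpens // ∃ V : Y.affineOpens, (U : X.Opens) ≤ f ⁻¹ᵁ (V : Y.Opens)}
  refine Coherent.isQCoh_of_localizesOn F (fun U : ι => (U.1 : X.Opens)) (fun U => U.1.2) (fun x => ?_)
    fun U => ?_
  · obtain ⟨W, hW, hxW, -⟩ := Opens.isBasis_iff_nbhd.1 Y.isBasis_affineOpens (Opens.mem_top (f x))
    obtain ⟨U, hU, hxU, hUle⟩ := Opens.isBasis_iff_nbhd.1 X.isBasis_affineOpens (show x ∈ f ⁻¹ᵁ W from hxW)
    exact ⟨⟨⟨U, hU⟩, ⟨W, hW⟩, hUle⟩, hxU⟩
  obtain ⟨⟨U, hU⟩, V, e⟩ := U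
  constructor
  · intro g s
    obtain ⟨-, h2⟩ := chartRes_localizes e ((X.basicOpen_le g).trans e)
      (U := ⟨U, hU⟩) (U' := ⟨X.basicOpen g, hU.basicOpen g⟩) (X.basicOpen_le g) le_rfl g rfl
    obtain ⟨n, m, hm⟩ := h2 (c.iso ⟨X.basicOpen g, hU.basicOpen g⟩ V _ s)
    refine ⟨n, (c.iso ⟨U, hU⟩ V e).symm m, ?_⟩
    apply (c.iso ⟨X.basicOpen g, hU.basicOpen g⟩ V ((X.basicOpen_le g).trans e)).injective
    refine (c.map_res e _ (X.basicOpen_le g) le_rfl _).trans ?_
    rw [AddEquiv.apply_symm_apply, hm]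
    exact (c.map_smul ⟨X.basicOpen g, hU.basicOpen g⟩ V _ _ s).symm
  · intro g t ht
    obtain ⟨h1, -⟩ := chartRes_localizes e ((X.basicOpen_le g).trans e)
      (U := ⟨U, hU⟩) (U' := ⟨X.basicOpen g, hU.basicOpen g⟩) (X.basicOpen_le g) le_rfl g rfl
    obtain ⟨n, hn⟩ := h1 (c.iso ⟨U, hU⟩ V e t) ((c.map_res e _ (X.basicOpen_le g) le_rfl t).symm.trans
      ((congrArg (c.iso ⟨X.basicOpen g, hU.basicOpen g⟩ V _) ht).trans (map_zero _)))
    refine ⟨n, ?_⟩
    apply (c.iso ⟨U, hU⟩ V e).injective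
    exact ((c.map_smul _ V e _ t).trans hn).trans (map_zero _).symm

end Groth.Agent.FlatMor12.NLSheaf
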