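import Groth.Prelude.Def_Omega3
import Groth.Agent.FlatMor12.NLSheaf.Sheaf
import Groth.Agent.FlatMor12.NLSheaf.Delta
import Groth.Agent.Coherent.PullUnit
import Groth.Agent.MorProj.OmegaAffine
import Groth.Agent.TwistLib.G.Map
import Groth.Agent.AmpleLib.FTIdeal
import Mathlib.AlgebraicGeometry.Morphisms.FormallyUnramified

/-!
# For an immersion, `H⁻¹(NL)` is the conormal sheaf
-/

set_option autoImplicit false
set_option backward.isDefEq.respectTransparency.types false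
universe u

open CategoryTheory CategoryTheory.Limits AlgebraicGeometry TopologicalSpace Opposite

noncomputable section

namespace Groth.Agent.FlatMor12.NLSheaf

variable {Z X : Scheme.{u}} (i : Z ⟶ X)

theorem app_idealSect (W : X.Opens) (s : Γ(ClSub.idealMod i.ker, W)) :
    i.app W (OmegaSh.idealSect i.ker W s) = 0 := by
  have h0 : i.ker.subschemeι.app W (OmegaSh.idealSect i.ker W s) = 0 :=
    (AmpleLib.mem_range_idealModι _ _ _).1 ⟨s, rfl⟩
  have key : ∀ j : Z ⟶ X, j = i → j.app W (OmegaSh.idealSect i.ker W s) = 0 →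
      i.app W (OmegaSh.idealSect i.ker W s) = 0 := by
    rintro j rfl h; exact h
  refine key (i.toImage ≫ i.imageι) i.toImage_imageι ?_
  exact (ConcreteCategory.congr_hom (Scheme.Hom.comp_app _ _ W) _).trans
    ((congrArg (i.toImage.app (i.imageι ⁻¹ᵁ W)) h0).trans (map_zero _))

/-- A local section of the ideal restricted to the target of a chart pair. -/
theorem res_idealSect_mem {W : X.Opens} (s : Γ(ClSub.idealMod i.ker, W)) {O : Z.Opens} (r : Pair i O)
    (hr : (r.V : X.Opens) ≤ W) :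
    i.appLE r.V r.U r.e (X.presheaf.map (homOfLE hr).op (OmegaSh.idealSect i.ker W s)) = 0 := by
  rw [← CommRingCat.comp_apply, Scheme.Hom.map_appLE, Scheme.Hom.appLE, CommRingCat.comp_apply,
    app_idealSect, map_zero]

/-- The class on a chart pair of a local section of the ideal. -/
def cls {W : X.Opens} (s : Γ(ClSub.idealMod i.ker, W)) {O : Z.Opens} (r : Pair i O)
    (hr : (r.V : X.Opens) ≤ W) : Sec r :=
  letI := (i.appLE r.V r.U r.e).hom.toAlgebra
  delta Γ(X, (r.V : X.Opens)) Γ(Z, (r.U : Z.Opens))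
    ⟨X.presheaf.map (homOfLE hr).op (OmegaSh.idealSect i.ker W s), res_idealSect_mem i s r hr⟩

theorem res_cls {W : X.Opens} (s : Γ(ClSub.idealMod i.ker, W)) {O : Z.Opens} (r r' : Pair i O)
    (hr : (r.V : X.Opens) ≤ W) (hr' : (r'.V : X.Opens) ≤ W)
    (hU : (r'.U : Z.Opens) ≤ r.U) (hV : (r'.V : X.Opens) ≤ r.V) :
    res r r' hU hV (cls i s r hr) = cls i s r' hr' := by
  letI := (i.appLE r.V r.U r.e).hom.toAlgebra
  letI := (i.appLE r'.V r'.U r'.e).hom.toAlgebra
  letI := (i.appLE r.V r'.U (hU.trans r.e)).hom.toAlgebra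
  letI := (Z.presheaf.map (homOfLE hU).op).hom.toAlgebra
  letI := (X.presheaf.map (homOfLE hV).op).hom.toAlgebra
  haveI : IsScalarTower Γ(X, (r.V : X.Opens)) Γ(X, (r'.V : X.Opens)) Γ(Z, (r'.U : Z.Opens)) :=
    tower_of_comp _ _ _ (Scheme.Hom.map_appLE _ _ _)
  haveI : IsScalarTower Γ(X, (r.V : X.Opens)) Γ(Z, (r.U : Z.Opens)) Γ(Z, (r'.U : Z.Opens)) :=
    tower_of_comp _ _ _ (Scheme.Hom.appLE_map _ _ _)
  exact map_delta _ _ _ _ _ _ (ConcreteCategory.congr_hom (X.presheaf.map_comp (homOfLE hr).op (homOfLE hV).op) _)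

theorem exists_famOf (W : X.Opens) (s : Γ(ClSub.idealMod i.ker, W)) :
    ∃ t : fam i (i ⁻¹ᵁ W), ∀ (r : Pair i (i ⁻¹ᵁ W)) (hr : (r.V : X.Opens) ≤ W), t.1 r = cls i s r hr :=
  exists_fam i W le_rfl _ fun r r' hr hr' hU hV => res_cls i s r r' hr hr' hU hV

/-- The family of classes of a local section of the ideal. -/
def famOf (W : X.Opens) (s : Γ(ClSub.idealMod i.ker, W)) : fam i (i ⁻¹ᵁ W) := (exists_famOf i W s).choose

theorem famOf_apply (W : X.Opens) (s : Γ(ClSub.idealMod i.ker, W)) (r : Pair i (i ⁻¹ᵁ W))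
    (hr : (r.V : X.Opens) ≤ W) : (famOf i W s).1 r = cls i s r hr :=
  (exists_famOf i W s).choose_spec r hr

theorem famOf_add (W : X.Opens) (s t : Γ(ClSub.idealMod i.ker, W)) :
    famOf i W (s + t) = famOf i W s + famOf i W t := by
  refine fam_ext i W le_rfl fun r hr => ?_
  show _ = (famOf i W s).1 r + (famOf i W t).1 r
  rw [famOf_apply i W _ r hr, famOf_apply i W _ r hr, famOf_apply i W _ r hr]
  letI := (i.appLE r.V r.U r.e).hom.toAlgebra
  refine Eq.trans ?_ (map_add (delta Γ(X, (r.V : X.Opens)) Γ(Z, (r.U : Z.Opens))) _ _)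
  refine congrArg (delta Γ(X, (r.V : X.Opens)) Γ(Z, (r.U : Z.Opens))) (Subtype.ext ?_)
  show X.presheaf.map _ (OmegaSh.idealSect i.ker W (s + t)) = _ + _
  rw [map_add, map_add]

theorem famOf_smul (W : X.Opens) (a : Γ(X, W)) (s : Γ(ClSub.idealMod i.ker, W)) :
    famOf i W (a • s) = (i.app W a : Γ(Z, i ⁻¹ᵁ W)) • famOf i W s := by
  refine fam_ext i W le_rfl fun r hr => ?_
  show _ = (i.app W a : Γ(Z, i ⁻¹ᵁ W)) • (famOf i W s).1 r
  rw [famOf_apply i W _ r hr, famOf_apply i W _ r hr]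
  letI := (i.appLE r.V r.U r.e).hom.toAlgebra
  have e1 : X.presheaf.map (homOfLE hr).op (OmegaSh.idealSect i.ker W (a • s)) =
      X.presheaf.map (homOfLE hr).op a * X.presheaf.map (homOfLE hr).op (OmegaSh.idealSect i.ker W s) := by
    rw [← map_mul]
    exact congrArg _ (congrArg (OmegaSh.fnSect X W) (Scheme.Modules.Hom.app_smul (ClSub.idealModι i.ker) a s))
  have e2 : Z.presheaf.map (homOfLE r.le).op (i.app W a) =
      i.appLE r.V r.U r.e (X.presheaf.map (homOfLE hr).op a) := by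
    rw [← CommRingCat.comp_apply, ← CommRingCat.comp_apply, Scheme.Hom.map_appLE]
    rfl
  refine Eq.trans (congrArg (delta Γ(X, (r.V : X.Opens)) Γ(Z, (r.U : Z.Opens))) (Subtype.ext e1 :
    (⟨_, res_idealSect_mem i (a • s) r hr⟩ : RingHom.ker (algebraMap Γ(X, (r.V : X.Opens)) Γ(Z, (r.U : Z.Opens)))) =
      (X.presheaf.map (homOfLE hr).op a : Γ(X, (r.V : X.Opens))) •
        ⟨_, res_idealSect_mem i s r hr⟩)) ?_
  rw [map_smul, ← algebraMap_smul Γ(Z, (r.U : Z.Opens)) (X.presheaf.map (homOfLE hr).op a : Γ(X, (r.V : X.Opens)))]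
  exact congrArg (fun b : Γ(Z, (r.U : Z.Opens)) => b •
    (delta Γ(X, (r.V : X.Opens)) Γ(Z, (r.U : Z.Opens))
      ⟨X.presheaf.map (homOfLE hr).op (OmegaSh.idealSect i.ker W s), res_idealSect_mem i s r hr⟩)) e2.symm

/-- The ideal maps to the pushforward of `H⁻¹(NL)`. -/
def idealToH1 : ClSub.idealMod i.ker ⟶ (Scheme.Modules.pushforward i).obj (h1Module i) :=
  ⟨PresheafOfModules.homMk
    { app := fun W => AddCommGrpCat.ofHom (AddMonoidHom.mk' (famOf i W.unop) (famOf_add i W.unop))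
      naturality := fun W W' g => ConcreteCategory.hom_ext _ _ fun s => by
        show famOf i W'.unop ((ClSub.idealMod i.ker).presheaf.map g s) =
          famRes i ((Opens.map i.base).map g.unop).le (famOf i W.unop s)
        refine fam_ext i W'.unop le_rfl fun r hr => ?_
        show _ = (famOf i W.unop s).1 (r.mono i _)
        rw [famOf_apply i _ _ r hr, famOf_apply i _ _ (r.mono i ((Opens.map i.base).map g.unop).le) (hr.trans g.unop.le)]
        letI := (i.appLE r.V r.U r.e).hom.toAlgebra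
        refine congrArg (delta Γ(X, (r.V : X.Opens)) Γ(Z, (r.U : Z.Opens))) (Subtype.ext ?_)
        have h1 : OmegaSh.idealSect i.ker W'.unop ((ClSub.idealMod i.ker).presheaf.map g s) =
            X.presheaf.map g (OmegaSh.idealSect i.ker W.unop s) :=
          congr($((ClSub.idealModι i.ker).mapPresheaf.naturality g) s)
        show X.presheaf.map (homOfLE hr).op (OmegaSh.idealSect i.ker W'.unop _) = _
        rw [h1, ← CommRingCat.comp_apply, ← Functor.map_comp]
        rfl }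
    fun W a s => famOf_smul i W.unop a s⟩

/-- The conormal sheaf maps to `H⁻¹(NL)`. -/
def conormalToH1 : Omega.conormal i ⟶ h1Module i :=
  ((Scheme.Modules.pullbackPushforwardAdjunction i).homEquiv _ _).symm (idealToH1 i)

theorem conormalToH1_app (W : X.Opens) (s : Γ(ClSub.idealMod i.ker, W)) :
    (conormalToH1 i).app (i ⁻¹ᵁ W) (OmegaSh.pullSect i (ClSub.idealMod i.ker) W s) = famOf i W s := by
  have h := ((Scheme.Modules.pullbackPushforwardAdjunction i).homEquiv _ _).apply_symm_apply (idealToH1 i)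
  rw [Adjunction.homEquiv_unit] at h
  exact congr(($h).app W s)

variable [IsImmersion i]

theorem isClosedImmersion_restrict {U : X.Opens} (hle : U ≤ i.coborderRange) : IsClosedImmersion (i ∣_ U) := by
  have h' : IsPullback i.liftCoborder (𝟙 Z) i.coborderRange.ι i :=
    IsPullback.of_vert_isIso_mono ⟨by simp⟩
  have h : IsPullback (i ∣_ U) (i ⁻¹ᵁ U).ι (X.homOfLE hle ≫ i.coborderRange.ι) i := by
    rw [Scheme.homOfLE_ι]
    exact isPullback_morphismRestrict i U
  exact MorphismProperty.of_isPullback (P := @IsClosedImmersion) (IsPullback.of_bot' h h').flip inferInstance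

theorem surjective_app {U : X.Opens} (hU : IsAffineOpen U) [IsClosedImmersion (i ∣_ U)] :
    IsAffineOpen (i ⁻¹ᵁ U) ∧ Function.Surjective (i.app U) := by
  haveI : IsAffine U.toScheme := hU
  obtain ⟨hA, hs⟩ := IsClosedImmersion.isAffine_surjective_of_isAffine (i ∣_ U)
  refine ⟨hA, ?_⟩
  rw [morphismRestrict_appTop] at hs
  intro y
  obtain ⟨x, hx⟩ := hs ((Z.presheaf.map (eqToHom (i ⁻¹ᵁ U).ι_image_top).op) y)
  refine ⟨X.presheaf.map (eqToHom U.ι_image_top.symm).op x, ?_⟩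
  simp only [CommRingCat.comp_apply] at hx
  have e := (ConcreteCategory.bijective_of_isIso (Z.presheaf.map (eqToHom
    (show ((i ⁻¹ᵁ U).ι ''ᵁ ⊤ : Z.Opens) = i ⁻¹ᵁ U from (i ⁻¹ᵁ U).ι_image_top)).op)).1
  apply e
  refine Eq.trans ?_ hx
  have key : X.presheaf.map (eqToHom U.ι_image_top.symm).op ≫ i.app U ≫
      Z.presheaf.map (eqToHom (i ⁻¹ᵁ U).ι_image_top).op =
      i.app (U.ι ''ᵁ ⊤) ≫ Z.presheaf.map (eqToHom (show ((i ⁻¹ᵁ U).ι ''ᵁ ⊤ : Z.Opens) = i ⁻¹ᵁ (U.ι ''ᵁ ⊤) by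
        rw [(i ⁻¹ᵁ U).ι_image_top, U.ι_image_top])).op := by
    simp [Scheme.Hom.app_eq_appLE]
  exact ConcreteCategory.congr_hom key x

theorem bijective_conormalToH1_app [QuasiCompact i] {U : X.Opens} (hU : IsAffineOpen U)
    [IsClosedImmersion (i ∣_ U)] : Function.Bijective ((conormalToH1 i).app (i ⁻¹ᵁ U)) := by
  obtain ⟨hB, hsurj⟩ := surjective_app i hU
  haveI : Coh.IsQCoh (ClSub.idealMod i.ker) := MorProj.isQCoh_idealMod i.ker
  let e : i ⁻¹ᵁ U ≤ i ⁻¹ᵁ U := le_rfl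
  letI := (i.appLE U (i ⁻¹ᵁ U) e).hom.toAlgebra
  letI := Module.compHom Γ((Scheme.Modules.pullback i).obj (ClSub.idealMod i.ker), i ⁻¹ᵁ U) (i.appLE U (i ⁻¹ᵁ U) e).hom
  haveI : IsScalarTower Γ(X, U) Γ(Z, i ⁻¹ᵁ U) Γ((Scheme.Modules.pullback i).obj (ClSub.idealMod i.ker), i ⁻¹ᵁ U) :=
    IsScalarTower.of_algebraMap_smul fun _ _ => rfl
  obtain ⟨μ, hμ, hμm⟩ := EGA43.InjFibre.pullMap_isBaseChange i hU hB e (ClSub.idealMod i.ker)
  have hsurj' : Function.Surjective (algebraMap Γ(X, U) Γ(Z, i ⁻¹ᵁ U)) := by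
    intro y
    obtain ⟨x, hx⟩ := hsurj y
    exact ⟨x, by show i.appLE U _ e x = y; rw [← Scheme.Hom.app_eq_appLE]; exact hx⟩
  -- sections of the ideal sheaf are the kernel
  let θ : Γ(ClSub.idealMod i.ker, U) →ₗ[Γ(X, U)] RingHom.ker (algebraMap Γ(X, U) Γ(Z, i ⁻¹ᵁ U)) :=
    { toFun := fun s => ⟨OmegaSh.idealSect i.ker U s, by
        show i.appLE U _ e _ = 0
        rw [← Scheme.Hom.app_eq_appLE]
        exact app_idealSect i U s⟩
      map_add' := fun s t => Subtype.ext (map_add (OmegaSh.idealSect i.ker U) s t)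
      map_smul' := fun a s => Subtype.ext
        (congrArg (OmegaSh.fnSect X U) (Scheme.Modules.Hom.app_smul (ClSub.idealModι i.ker) a s)) }
  have hθ : Function.Bijective θ := by
    refine ⟨fun a b h => ?_, fun ⟨a, ha⟩ => ?_⟩
    · haveI := AmpleLib.mono_idealModι i.ker
      exact Coherent.app_injective_of_mono (ClSub.idealModι i.ker) U (congrArg Subtype.val h)
    · have ha' : i.app U a = 0 := by
        rw [Scheme.Hom.app_eq_appLE]
        exact ha
      have h2 : i.ker.subschemeι.app U a = 0 := by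
        rw [← RingHom.mem_ker, i.ker.ker_subschemeι_app ⟨U, hU⟩, Scheme.Hom.ker_apply]
        exact ha'
      obtain ⟨p, hp⟩ := (AmpleLib.mem_range_idealModι i.ker U a).2 h2
      exact ⟨p, Subtype.ext hp⟩
  let H := Algebra.H1Cotangent Γ(X, U) Γ(Z, i ⁻¹ᵁ U)
  have hδ : IsBaseChange Γ(Z, i ⁻¹ᵁ U) (delta Γ(X, U) Γ(Z, i ⁻¹ᵁ U)) := isBaseChange_delta hsurj'
  let c := (h1Sheaf i).iso ⟨i ⁻¹ᵁ U, hB⟩ ⟨U, hU⟩ le_rfl
  let g : Γ((Scheme.Modules.pullback i).obj (ClSub.idealMod i.ker), i ⁻¹ᵁ U) →ₗ[Γ(Z, i ⁻¹ᵁ U)] H :=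
    { toFun := fun x => c ((conormalToH1 i).app (i ⁻¹ᵁ U) x)
      map_add' := fun a b => (congrArg c (map_add ((conormalToH1 i).app (i ⁻¹ᵁ U)).hom a b)).trans (map_add c _ _)
      map_smul' := fun a x => (congrArg c (Scheme.Modules.Hom.app_smul (conormalToH1 i) a x)).trans
        ((h1Sheaf i).map_smul ⟨i ⁻¹ᵁ U, hB⟩ ⟨U, hU⟩ le_rfl a _) }
  let E := (hμ.equiv.symm.trans (LinearEquiv.baseChange Γ(X, U) Γ(Z, i ⁻¹ᵁ U) _ _ (LinearEquiv.ofBijective θ hθ))).trans hδ.equiv
  have hg : g = E.toLinearMap := by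
    refine hμ.algHom_ext _ _ fun s => ?_
    show c ((conormalToH1 i).app (i ⁻¹ᵁ U) (μ s)) = E (μ s)
    have h1 : E (μ s) = delta Γ(X, U) Γ(Z, i ⁻¹ᵁ U) (θ s) := by
      simp only [E, LinearEquiv.trans_apply, IsBaseChange.equiv_symm_apply, LinearEquiv.baseChange_tmul, IsBaseChange.equiv_tmul, one_smul]
      rfl
    rw [h1, hμm, Coherent.pullMap_eq_resM_pullSec, Coherent.resM_refl]
    refine (congrArg c (conormalToH1_app i U s)).trans ?_
    refine (famOf_apply i U s ⟨⟨i ⁻¹ᵁ U, hB⟩, ⟨U, hU⟩, le_rfl, le_rfl⟩ le_rfl).trans ?_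
    refine congrArg (delta Γ(X, U) Γ(Z, i ⁻¹ᵁ U)) (Subtype.ext ?_)
    exact ConcreteCategory.congr_hom (X.presheaf.map_id (op U)) _
  have hb : Function.Bijective g := hg ▸ E.bijective
  exact (Function.Bijective.of_comp_iff' c.bijective _).1 hb

theorem isIso_conormalToH1 [QuasiCompact i] : IsIso (conormalToH1 i) := by
  refine TwistLib.G.isIso_of_bijective_on_basis (conormalToH1 i)
    (fun B => ∃ U : X.Opens, IsAffineOpen U ∧ IsClosedImmersion (i ∣_ U) ∧ B = i ⁻¹ᵁ U) (fun V z hz => ?_) ?_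
  · obtain ⟨O, hO, hOV⟩ := i.isEmbedding.toIsInducing.isOpen_iff.1 V.2
    have hzO : i z ∈ (⟨O, hO⟩ : X.Opens) ⊓ i.coborderRange := by
      refine ⟨?_, subset_coborder ⟨z, rfl⟩⟩
      show z ∈ i ⁻¹' O
      rw [hOV]; exact hz
    obtain ⟨U, hU, hzU, hle⟩ := Opens.isBasis_iff_nbhd.1 X.isBasis_affineOpens hzO
    refine ⟨_, ⟨U, hU, isClosedImmersion_restrict i (hle.trans inf_le_right), rfl⟩, hzU, fun w hw => ?_⟩
    have : w ∈ i ⁻¹' O := (hle hw).1
    rwa [hOV] at this
  · rintro B ⟨U, hU, hc, rfl⟩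
    exact bijective_conormalToH1_app i hU

/-- The conormal sheaf carries the chart data of `H⁻¹(NL)`. -/
theorem nonempty_h1Sheaf_conormal [QuasiCompact i] : Nonempty (NLCx.H1Sheaf i (Omega.conormal i)) := by
  haveI := isIso_conormalToH1 i
  let c := h1Sheaf i
  let φ := conormalToH1 i
  have hb : ∀ U : Z.Opens, Function.Bijective (φ.app U) := fun U => ConcreteCategory.bijective_of_isIso _
  refine ⟨{ iso := fun U V e => (AddEquiv.ofBijective (φ.app (U : Z.Opens)).hom (hb _)).trans (c.iso U V e)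
            map_smul := fun U V e a m => ?_
            map_res := fun {U U' V V'} e e' hU hV m => ?_ }⟩
  · show c.iso U V e (φ.app (U : Z.Opens) (a • m)) = _
    exact (congrArg (c.iso U V e) (Scheme.Modules.Hom.app_smul φ a m)).trans (c.map_smul U V e a _)
  · show c.iso U' V' e' (φ.app (U' : Z.Opens) ((Omega.conormal i).val.map (homOfLE hU).op m)) = _
    refine Eq.trans (congrArg _ ?_) (c.map_res e e' hU hV _)
    exact congr($(φ.mapPresheaf.naturality (homOfLE hU).op) m)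

theorem subsingleton_kaehler_onCharts :
    NLCx.OnCharts i (fun A B _ _ _ => Subsingleton (Ω[B⁄A])) := by
  intro U V e
  letI := (i.appLE (V : X.Opens) (U : Z.Opens) e).hom.toAlgebra
  have h := i.formallyUnramified_appLE V.2 U.2 e
  haveI : Algebra.FormallyUnramified Γ(X, (V : X.Opens)) Γ(Z, (U : Z.Opens)) := h
  exact Algebra.FormallyUnramified.subsingleton_kaehlerDifferential

end Groth.Agent.FlatMor12.NLSheaf
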